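import Mathlib
import Groth.Prelude.Def_Wider
import Groth.Agent.LC.Matlis

/-!
# Linear self-equivalences of the category of modules of finite length over a local ring
-/

set_option autoImplicit false
set_option backward.isDefEq.respectTransparency false
set_option backward.isDefEq.respectTransparency.types false

universe u

open CategoryTheory CategoryTheory.Limits IsLocalRing

noncomputable section

namespace Groth.Agent.FinLenEquiv7

variable {A : Type u} [CommRing A] [IsLocalRing A] [IsNoetherianRing A]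

/-- A module killed by the maximal ideal all of whose endomorphisms are scalars is cyclic. -/
theorem exists_span_singleton_of_end {W : Type u} [AddCommGroup W] [Module A W]
    (htors : ∀ a ∈ maximalIdeal A, ∀ w : W, a • w = 0) (hend : ∀ f : W →ₗ[A] W, ∃ a : A, ∀ w, f w = a • w) :
    ∃ v : W, Submodule.span A {v} = ⊤ := by
  classical
  by_cases h0 : ∀ w : W, w = 0
  · exact ⟨0, eq_top_iff.2 fun w _ => (h0 w).symm ▸ zero_mem _⟩
  push Not at h0
  obtain ⟨v, hv⟩ := h0
  refine ⟨v, eq_top_iff.2 fun w _ => ?_⟩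
  by_contra hw
  have ht : Module.IsTorsionBySet A W (maximalIdeal A : Set A) := fun x a => htors a a.2 x
  let : Field (A ⧸ maximalIdeal A) := Ideal.Quotient.field _
  let : Module (A ⧸ maximalIdeal A) W := ht.module
  haveI : IsScalarTower A (A ⧸ maximalIdeal A) W := ht.isScalarTower
  have hw' : w ∉ Submodule.span (A ⧸ maximalIdeal A) {v} := by
    intro h
    obtain ⟨c, hc⟩ := Submodule.mem_span_singleton.1 h
    obtain ⟨a, rfl⟩ := Ideal.Quotient.mk_surjective c
    exact hw (Submodule.mem_span_singleton.2 ⟨a, hc⟩)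
  obtain ⟨φ, hφw, hφ⟩ := Submodule.exists_dual_map_eq_bot_of_notMem hw' inferInstance
  have hφv : φ v = 0 := by
    have : φ v ∈ Submodule.map φ (Submodule.span (A ⧸ maximalIdeal A) {v}) :=
      Submodule.mem_map_of_mem (Submodule.mem_span_singleton_self v)
    rwa [hφ, Submodule.mem_bot] at this
  let f : W →ₗ[A ⧸ maximalIdeal A] W := φ.smulRight v
  obtain ⟨a, ha⟩ := hend (f.restrictScalars A)
  have h1 : (0 : W) = a • v := by
    have := ha v
    simpa [f, hφv] using this
  have ham : a ∈ maximalIdeal A := by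
    by_contra h
    exact hv ((IsLocalRing.notMem_maximalIdeal.1 h).smul_eq_zero.1 h1.symm)
  have h2 : φ w • v = a • w := ha w
  rw [htors a ham w] at h2
  rcases smul_eq_zero.1 h2 with h | h
  · exact hφw h
  · exact hv h

/-- A finite length module is killed by a power of the maximal ideal. -/
theorem exists_pow_kills {M : Type u} [AddCommGroup M] [Module A M] (hM : IsFiniteLength A M) :
    ∃ n : ℕ, ∀ a ∈ maximalIdeal A ^ n, ∀ x : M, a • x = 0 := by
  obtain ⟨hN, hA⟩ := isFiniteLength_iff_isNoetherian_isArtinian.1 hM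
  let f : ℕ → Submodule A M := fun n => maximalIdeal A ^ n • ⊤
  have hanti : Antitone f := fun i j hij => Submodule.smul_mono_left (Ideal.pow_le_pow_right hij)
  obtain ⟨n, hn⟩ := IsArtinian.monotone_stabilizes ⟨fun i => OrderDual.toDual (f i), fun i j h => hanti h⟩
  have he : f n = f (n + 1) := hn (n + 1) (Nat.le_succ n)
  have hbot : f n = ⊥ := by
    refine Submodule.eq_bot_of_le_smul_of_le_jacobson_bot (maximalIdeal A) _ (IsNoetherian.noetherian _) ?_
      (IsLocalRing.maximalIdeal_le_jacobson ⊥)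
    exact he.le.trans (by simp only [f, pow_succ', Submodule.mul_smul]; rfl)
  refine ⟨n, fun a ha x => ?_⟩
  have : a • x ∈ f n := Submodule.smul_mem_smul ha Submodule.mem_top
  rwa [hbot, Submodule.mem_bot] at this

/-- The cyclic module `A ⧸ 𝔪ⁿ`. -/
abbrev An (A : Type u) [CommRing A] [IsLocalRing A] [IsNoetherianRing A] (n : ℕ) : Dual.FinLen A :=
  ⟨ModuleCat.of A (A ⧸ maximalIdeal A ^ n), Groth.Agent.LC.isFiniteLength_quot_pow n⟩

/-- A morphism of modules of finite length from a linear map. -/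
abbrev mk {M N : Dual.FinLen A} (f : M.obj →ₗ[A] N.obj) : M ⟶ N :=
  ObjectProperty.homMk (ModuleCat.ofHom f)

theorem hom_ext {M N : Dual.FinLen A} {f g : M ⟶ N} (h : ∀ x : M.obj, f.hom.hom x = g.hom.hom x) : f = g :=
  ObjectProperty.hom_ext _ (ModuleCat.hom_ext (LinearMap.ext h))

theorem smul_apply {M N : Dual.FinLen A} (a : A) (f : M ⟶ N) (x : M.obj) :
    (a • f).hom.hom x = a • f.hom.hom x := rfl

theorem surjective_of_epi {M N : Dual.FinLen A} (f : M ⟶ N) [Epi f] : Function.Surjective f.hom.hom := by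
  rw [← LinearMap.range_eq_top]
  have hQ : IsFiniteLength A (N.obj ⧸ LinearMap.range f.hom.hom) := by
    obtain ⟨h1, h2⟩ := isFiniteLength_iff_isNoetherian_isArtinian.1 N.property
    exact isFiniteLength_iff_isNoetherian_isArtinian.2 ⟨inferInstance, inferInstance⟩
  let Q : Dual.FinLen A := ⟨ModuleCat.of A (N.obj ⧸ LinearMap.range f.hom.hom), hQ⟩
  have h : (mk (N := Q) (Submodule.mkQ (LinearMap.range f.hom.hom)) : N ⟶ Q) =
      mk (N := Q) (0 : N.obj →ₗ[A] Q.obj) := by
    refine (cancel_epi f).1 (hom_ext fun x => ?_)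
    exact (Submodule.Quotient.mk_eq_zero _).2 ⟨x, rfl⟩
  refine eq_top_iff.2 fun y _ => ?_
  rw [← Submodule.Quotient.mk_eq_zero]
  exact congrArg (fun g : N ⟶ Q => g.hom.hom y) h

theorem epi_of_surjective {M N : Dual.FinLen A} (f : M ⟶ N) (h : Function.Surjective f.hom.hom) : Epi f :=
  ⟨fun g g' hg => hom_ext fun y => by
    obtain ⟨x, rfl⟩ := h y
    exact congrArg (fun k : M ⟶ _ => k.hom.hom x) hg⟩

/-- The map `A ⧸ 𝔪ⁿ → M` with prescribed value at `1`. -/
abbrev elt (n : ℕ) {M : Dual.FinLen A} (x : M.obj) (hx : ∀ a ∈ maximalIdeal A ^ n, a • x = 0) : An A n ⟶ M :=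
  mk (M := An A n) ((maximalIdeal A ^ n).liftQ (LinearMap.toSpanSingleton A M.obj x) fun a ha => hx a ha)

theorem elt_one (n : ℕ) {M : Dual.FinLen A} (x : M.obj) (hx : ∀ a ∈ maximalIdeal A ^ n, a • x = 0) :
    (elt n x hx).hom.hom (Submodule.Quotient.mk 1) = x := one_smul A x

theorem comp_elt_one (n : ℕ) {M N : Dual.FinLen A} (x : M.obj) (hx : ∀ a ∈ maximalIdeal A ^ n, a • x = 0)
    (f : M ⟶ N) : (elt n x hx ≫ f).hom.hom (Submodule.Quotient.mk 1) = f.hom.hom x :=
  congrArg f.hom.hom (elt_one n x hx)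

theorem hom_mk_eq {n : ℕ} {M : Dual.FinLen A} (f : An A n ⟶ M) (a : A) :
    f.hom.hom (Submodule.Quotient.mk a) = a • f.hom.hom (Submodule.Quotient.mk 1) := by
  rw [← map_smul]
  congr 1
  exact congrArg Submodule.Quotient.mk (mul_one a).symm

theorem ext_one {n : ℕ} {M : Dual.FinLen A} {f g : An A n ⟶ M}
    (h : f.hom.hom (Submodule.Quotient.mk 1) = g.hom.hom (Submodule.Quotient.mk 1)) : f = g := by
  refine hom_ext fun x => ?_
  obtain ⟨a, rfl⟩ := Submodule.Quotient.mk_surjective _ x
  rw [hom_mk_eq f, hom_mk_eq g, h]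

variable (F : Dual.FinLen A ≌ Dual.FinLen A) [F.functor.Additive] [F.functor.Linear A]

theorem functor_kills {M : Dual.FinLen A} {a : A} (h : ∀ x : M.obj, a • x = 0) (y : (F.functor.obj M).obj) :
    a • y = 0 := by
  have h1 : a • 𝟙 M = 0 := hom_ext fun x => h x
  have h2 : a • 𝟙 (F.functor.obj M) = 0 := by
    rw [← F.functor.map_id, ← F.functor.map_smul, h1, F.functor.map_zero]
  exact congrArg (fun g : F.functor.obj M ⟶ F.functor.obj M => g.hom.hom y) h2

theorem kills_An (n : ℕ) {a : A} (ha : a ∈ maximalIdeal A ^ n) (x : (An A n).obj) : a • x = 0 := by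
  obtain ⟨b, rfl⟩ := Submodule.Quotient.mk_surjective _ x
  exact (Submodule.Quotient.mk_eq_zero _).2 (Ideal.mul_mem_right b _ ha)

theorem cyclic (n : ℕ) : ∃ v : (F.functor.obj (An A n)).obj, Submodule.span A {v} = ⊤ := by
  let G := F.functor.obj (An A n)
  let S : Submodule A G.obj := maximalIdeal A • ⊤
  obtain ⟨hN, hA⟩ := isFiniteLength_iff_isNoetherian_isArtinian.1 G.property
  let Q : Dual.FinLen A := ⟨ModuleCat.of A (G.obj ⧸ S),
    isFiniteLength_iff_isNoetherian_isArtinian.2 ⟨inferInstance, inferInstance⟩⟩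
  let q : G ⟶ Q := mk (N := Q) S.mkQ
  haveI : Epi q := epi_of_surjective q S.mkQ_surjective
  let Q' := F.functor.objPreimage Q
  let i : F.functor.obj Q' ≅ Q := F.functor.objObjPreimageIso Q
  let p : An A n ⟶ Q' := F.functor.preimage (q ≫ i.inv)
  haveI : Epi (F.functor.map p) := by rw [Functor.map_preimage]; infer_instance
  haveI : Epi p := F.functor.epi_of_epi_map inferInstance
  have hend : ∀ f : Q.obj →ₗ[A] Q.obj, ∃ a : A, ∀ w, f w = a • w := by
    intro f
    let g : Q' ⟶ Q' := F.functor.preimage (i.hom ≫ mk f ≫ i.inv)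
    obtain ⟨b, hb⟩ := surjective_of_epi p (g.hom.hom (p.hom.hom (Submodule.Quotient.mk 1)))
    obtain ⟨a, rfl⟩ := Submodule.Quotient.mk_surjective _ b
    have hg : g = a • 𝟙 Q' := by
      refine (cancel_epi p).1 (ext_one ?_)
      show g.hom.hom (p.hom.hom _) = a • p.hom.hom _
      rw [← hb, hom_mk_eq p a]
    refine ⟨a, fun w => ?_⟩
    have h1 : mk f = a • 𝟙 Q := by
      have h2 := congrArg F.functor.map hg
      rw [Functor.map_preimage, F.functor.map_smul, F.functor.map_id] at h2
      have h3 := congrArg (fun k => i.inv ≫ k ≫ i.hom) h2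
      simpa [Linear.comp_smul, Linear.smul_comp] using h3
    exact congrArg (fun k : Q ⟶ Q => k.hom.hom w) h1
  obtain ⟨v, hv⟩ := exists_span_singleton_of_end (W := Q.obj) (fun a ha w => by
    obtain ⟨y, rfl⟩ := S.mkQ_surjective w
    exact (Submodule.Quotient.mk_eq_zero S).2 (Submodule.smul_mem_smul ha Submodule.mem_top)) hend
  obtain ⟨y, rfl⟩ := S.mkQ_surjective v
  refine ⟨y, top_le_iff.1 (Submodule.le_of_le_smul_of_le_jacobson_bot Module.Finite.fg_top
    (IsLocalRing.maximalIdeal_le_jacobson ⊥) ?_)⟩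
  intro z _
  have hz : S.mkQ z ∈ Submodule.span A {S.mkQ y} := hv.ge Submodule.mem_top
  obtain ⟨a, ha⟩ := Submodule.mem_span_singleton.1 hz
  have h4 : z - a • y ∈ S := by
    rw [← Submodule.Quotient.mk_eq_zero, Submodule.Quotient.mk_sub, sub_eq_zero]
    exact ha.symm
  have h5 := Submodule.add_mem_sup (Submodule.smul_mem _ a (Submodule.mem_span_singleton_self y)) h4
  rwa [add_sub_cancel] at h5

/-- The projection `A ⧸ 𝔪ⁿ⁺¹ → A ⧸ 𝔪ⁿ`. -/
abbrev pr (n : ℕ) : An A (n + 1) ⟶ An A n :=
  elt (n + 1) (M := An A n) (Submodule.Quotient.mk 1) fun a ha =>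
    kills_An n (Ideal.pow_le_pow_right (Nat.le_succ n) ha) _

theorem exists_lift (n : ℕ) (e : (F.functor.obj (An A n)).obj) (he : Submodule.span A {e} = ⊤) :
    ∃ x : (F.functor.obj (An A (n + 1))).obj,
      Submodule.span A {x} = ⊤ ∧ (F.functor.map (pr n)).hom.hom x = e := by
  obtain ⟨g, hg⟩ := cyclic F (n + 1)
  rcases Nat.eq_zero_or_pos n with rfl | hn
  · refine ⟨g, hg, ?_⟩
    have h0 : ∀ y : (F.functor.obj (An A 0)).obj, y = 0 := fun y => by
      have := functor_kills F (fun x => kills_An 0 (a := (1 : A)) (by simp) x) y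
      rwa [one_smul] at this
    rw [h0 e, h0 ((F.functor.map (pr 0)).hom.hom g)]
  haveI : Epi (pr n : An A (n + 1) ⟶ An A n) := epi_of_surjective _ fun y => by
    obtain ⟨a, rfl⟩ := Submodule.Quotient.mk_surjective _ y
    refine ⟨Submodule.Quotient.mk a, ?_⟩
    rw [hom_mk_eq, elt_one]
    exact congrArg Submodule.Quotient.mk (mul_one a)
  obtain ⟨x, hx⟩ := surjective_of_epi (F.functor.map (pr n)) e
  refine ⟨x, ?_, hx⟩
  obtain ⟨a, rfl⟩ := Submodule.mem_span_singleton.1 (hg.ge (Submodule.mem_top (x := x)))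
  by_cases ha : IsUnit a
  · rw [Submodule.span_singleton_smul_eq ha, hg]
  exfalso
  rw [map_smul] at hx
  obtain ⟨b, hb⟩ := Submodule.mem_span_singleton.1 (he.ge (Submodule.mem_top (x := (F.functor.map (pr n)).hom.hom g)))
  rw [← hb, smul_smul] at hx
  have hu : IsUnit (1 - a * b) :=
    (IsLocalRing.isUnit_or_isUnit_one_sub_self (a * b)).resolve_left fun h => ha (isUnit_of_mul_isUnit_left h)
  have he0 : e = 0 := hu.smul_eq_zero.1 (by rw [sub_smul, one_smul, hx, sub_self])
  have hall : ∀ y : (F.functor.obj (An A n)).obj, y = 0 := fun y => by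
    obtain ⟨c, hc⟩ := Submodule.mem_span_singleton.1 (he.ge (Submodule.mem_top (x := y)))
    rw [← hc, he0, smul_zero]
  have hid : 𝟙 (An A n) = 0 := F.functor.map_injective (by
    rw [F.functor.map_id, F.functor.map_zero]
    exact hom_ext fun y => hall y)
  have h1 : (1 : A) ∈ maximalIdeal A ^ n :=
    (Submodule.Quotient.mk_eq_zero _).1 (congrArg (fun k : An A n ⟶ An A n => k.hom.hom (Submodule.Quotient.mk 1)) hid)
  exact (maximalIdeal.isMaximal A).ne_top (top_le_iff.1 ((Ideal.eq_top_of_isUnit_mem _ h1 isUnit_one).ge.trans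
    (Ideal.pow_le_self hn.ne')))

/-- Compatible generators. -/
def gen : (n : ℕ) → {e : (F.functor.obj (An A n)).obj // Submodule.span A {e} = ⊤}
  | 0 => ⟨(cyclic F 0).choose, (cyclic F 0).choose_spec⟩
  | n + 1 => ⟨(exists_lift F n (gen n).1 (gen n).2).choose, (exists_lift F n (gen n).1 (gen n).2).choose_spec.1⟩

theorem gen_succ (n : ℕ) : (F.functor.map (pr n)).hom.hom (gen F (n + 1)).1 = (gen F n).1 := by
  rw [gen]
  exact (exists_lift F n (gen F n).1 (gen F n).2).choose_spec.2

theorem map_ext_gen {n : ℕ} {N : Dual.FinLen A} {f g : F.functor.obj (An A n) ⟶ N}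
    (h : f.hom.hom (gen F n).1 = g.hom.hom (gen F n).1) : f = g := by
  refine hom_ext fun y => ?_
  obtain ⟨c, rfl⟩ := Submodule.mem_span_singleton.1 ((gen F n).2.ge (Submodule.mem_top (x := y)))
  rw [map_smul, map_smul, h]

theorem smul_gen_eq_zero_iff {n : ℕ} {a : A} : a • (gen F n).1 = 0 ↔ a ∈ maximalIdeal A ^ n := by
  refine ⟨fun h => ?_, fun h => functor_kills F (kills_An n h) _⟩
  have h1 : a • 𝟙 (F.functor.obj (An A n)) = 0 := map_ext_gen F h
  rw [← F.functor.map_id, ← F.functor.map_smul, ← F.functor.map_zero] at h1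
  have h2 := F.functor.map_injective h1
  have h3 : a • (Submodule.Quotient.mk 1 : A ⧸ maximalIdeal A ^ n) = 0 :=
    congrArg (fun k : An A n ⟶ An A n => k.hom.hom (Submodule.Quotient.mk 1)) h2
  rw [← Submodule.Quotient.mk_smul, Submodule.Quotient.mk_eq_zero, smul_eq_mul, mul_one] at h3
  exact h3

/-- `m ↦ F(m)(eₙ)`. -/
def val (M : Dual.FinLen A) (n : ℕ) (hn : ∀ a ∈ maximalIdeal A ^ n, ∀ x : M.obj, a • x = 0) (x : M.obj) :
    (F.functor.obj M).obj :=
  (F.functor.map (elt n x fun a ha => hn a ha x)).hom.hom (gen F n).1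

theorem val_succ (M : Dual.FinLen A) (n : ℕ) (hn : ∀ a ∈ maximalIdeal A ^ n, ∀ x : M.obj, a • x = 0) (x : M.obj) :
    val F M (n + 1) (fun a ha => hn a (Ideal.pow_le_pow_right (Nat.le_succ n) ha)) x = val F M n hn x := by
  have h : elt (n + 1) x (fun a ha => hn a (Ideal.pow_le_pow_right (Nat.le_succ n) ha) x) =
      pr n ≫ elt n x fun a ha => hn a ha x := by
    exact ext_one ((elt_one (n + 1) x _).trans
      ((comp_elt_one (n + 1) (M := An A n) (Submodule.Quotient.mk 1)
        (fun a ha => kills_An n (Ideal.pow_le_pow_right (Nat.le_succ n) ha) _)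
        (elt n x fun a ha => hn a ha x)).trans (elt_one n x _)).symm)
  rw [val, val, h, F.functor.map_comp]
  exact congrArg _ (gen_succ F n)

theorem val_eq (M : Dual.FinLen A) {n n' : ℕ} (h : n ≤ n')
    (hn : ∀ a ∈ maximalIdeal A ^ n, ∀ x : M.obj, a • x = 0) (x : M.obj) :
    ∀ hn', val F M n' hn' x = val F M n hn x := by
  induction n', h using Nat.le_induction with
  | base => exact fun _ => rfl
  | succ m hm ih =>
    intro hn'
    exact (val_succ F M m (fun a ha => hn a (Ideal.pow_le_pow_right hm ha)) x).trans (ih _)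

/-- The comparison map. -/
def eta (M : Dual.FinLen A) : M.obj →ₗ[A] (F.functor.obj M).obj where
  toFun := val F M _ (exists_pow_kills M.property).choose_spec
  map_add' x y := by
    have h : ∀ (n : ℕ) (hn : ∀ a ∈ maximalIdeal A ^ n, ∀ x : M.obj, a • x = 0),
        val F M n hn (x + y) = val F M n hn x + val F M n hn y := by
      intro n hn
      have : elt n (x + y) (fun a ha => hn a ha _) = elt n x (fun a ha => hn a ha x) + elt n y (fun a ha => hn a ha y) := by
        refine ext_one ?_
        show _ = (elt n x _).hom.hom _ + (elt n y _).hom.hom _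
        rw [elt_one, elt_one, elt_one]
      rw [val, this, F.functor.map_add]
      rfl
    exact h _ _
  map_smul' c x := by
    have h : ∀ (n : ℕ) (hn : ∀ a ∈ maximalIdeal A ^ n, ∀ x : M.obj, a • x = 0),
        val F M n hn (c • x) = c • val F M n hn x := by
      intro n hn
      have : elt n (c • x) (fun a ha => hn a ha _) = c • elt n x (fun a ha => hn a ha x) := by
        refine ext_one ?_
        show _ = c • (elt n x _).hom.hom _
        rw [elt_one, elt_one]
      rw [val, this, F.functor.map_smul]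
      rfl
    exact h _ _

theorem eta_apply (M : Dual.FinLen A) {n : ℕ} (hn : ∀ a ∈ maximalIdeal A ^ n, ∀ x : M.obj, a • x = 0) (x : M.obj) :
    eta F M x = val F M n hn x := by
  let n₀ := (exists_pow_kills M.property).choose
  have h1 := val_eq F M (Nat.le_add_right n n₀) hn x
    (fun a ha => hn a (Ideal.pow_le_pow_right (Nat.le_add_right n n₀) ha))
  have h2 := val_eq F M (Nat.le_add_left n₀ n) (exists_pow_kills M.property).choose_spec x
    (fun a ha => hn a (Ideal.pow_le_pow_right (Nat.le_add_right n n₀) ha))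
  exact h2.symm.trans h1

theorem eta_bijective (M : Dual.FinLen A) : Function.Bijective (eta F M) := by
  obtain ⟨n, hn⟩ := exists_pow_kills M.property
  refine ⟨(injective_iff_map_eq_zero _).2 fun x hx => ?_, fun y => ?_⟩
  · rw [eta_apply F M hn] at hx
    have h1 : F.functor.map (elt n x fun a ha => hn a ha x) = 0 := map_ext_gen F hx
    rw [← F.functor.map_zero] at h1
    rw [← elt_one n x fun a ha => hn a ha x, F.functor.map_injective h1]
    rfl
  · let G := F.functor.obj (An A n)
    let t : A →ₗ[A] G.obj := LinearMap.toSpanSingleton A G.obj (gen F n).1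
    have ht : Function.Surjective t := fun z => by
      obtain ⟨c, hc⟩ := Submodule.mem_span_singleton.1 ((gen F n).2.ge (Submodule.mem_top (x := z)))
      exact ⟨c, hc⟩
    let ψ : G.obj →ₗ[A] (F.functor.obj M).obj :=
      ((LinearMap.ker t).liftQ (LinearMap.toSpanSingleton A _ y) fun a ha =>
          functor_kills F (fun x => hn a ((smul_gen_eq_zero_iff F).1 ha) x) y).comp
        (t.quotKerEquivOfSurjective ht).symm.toLinearMap
    have hψ : ψ (gen F n).1 = y := by
      have : (t.quotKerEquivOfSurjective ht).symm (gen F n).1 = Submodule.Quotient.mk 1 := by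
        rw [LinearEquiv.symm_apply_eq]
        exact (one_smul A _).symm
      simp only [ψ, LinearMap.comp_apply, LinearEquiv.coe_coe]
      rw [this]
      exact one_smul A y
    let φ : An A n ⟶ M := F.functor.preimage (mk (M := G) ψ)
    refine ⟨φ.hom.hom (Submodule.Quotient.mk 1), ?_⟩
    rw [eta_apply F M hn, val, show elt n (φ.hom.hom (Submodule.Quotient.mk 1)) (fun a ha => hn a ha _) = φ from
      ext_one (elt_one n _ _), Functor.map_preimage]
    exact hψ

theorem eta_naturality {M N : Dual.FinLen A} (f : M ⟶ N) (x : M.obj) :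
    (F.functor.map f).hom.hom (eta F M x) = eta F N (f.hom.hom x) := by
  obtain ⟨n₁, hn₁⟩ := exists_pow_kills M.property
  obtain ⟨n₂, hn₂⟩ := exists_pow_kills N.property
  have hM : ∀ a ∈ maximalIdeal A ^ (n₁ + n₂), ∀ x : M.obj, a • x = 0 := fun a ha =>
    hn₁ a (Ideal.pow_le_pow_right (Nat.le_add_right n₁ n₂) ha)
  have hN : ∀ a ∈ maximalIdeal A ^ (n₁ + n₂), ∀ x : N.obj, a • x = 0 := fun a ha =>
    hn₂ a (Ideal.pow_le_pow_right (Nat.le_add_left n₂ n₁) ha)
  rw [eta_apply F M hM, eta_apply F N hN, val, val,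
    show elt _ (f.hom.hom x) (fun a ha => hN a ha _) = elt _ x (fun a ha => hM a ha x) ≫ f from
      ext_one (by
        show _ = f.hom.hom ((elt _ x _).hom.hom _)
        rw [elt_one, elt_one]),
    F.functor.map_comp]
  rfl

/-- A linear self-equivalence is isomorphic to the identity. -/
theorem nonempty_iso : Nonempty (F.functor ≅ 𝟭 (Dual.FinLen A)) := by
  refine ⟨(NatIso.ofComponents (fun M => ObjectProperty.isoMk _
    (LinearEquiv.ofBijective (eta F M) (eta_bijective F M)).toModuleIso) fun {M N} f => ?_).symm⟩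
  refine hom_ext fun x => ?_
  exact (eta_naturality F f x).symm

end Groth.Agent.FinLenEquiv7
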